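import Mathlib
import Cfsg.Agent.S3335

/-!
Lifts of involutions in a central extension of an alternating group by a subgroup of order two which
does not split: every lift of a product of two disjoint transpositions has order four, and no lift
of an involution is centralised by the whole preimage of its centraliser.
-/

set_option autoImplicit false
set_option linter.unusedSectionVars false
set_option linter.unusedSimpArgs false
set_option linter.style.haveILetI false

namespace CfsgLib.LyFusion

open Equiv Subgroup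
open Cfsg.Agent.S3335 (Rel gen gen_rel gen_val gen_closure card_bound adj)

variable {n : ℕ}

/-- A product of two disjoint transpositions. -/
def IsDouble (σ : Perm (Fin n)) : Prop :=
  ∃ a b c d : Fin n, a ≠ b ∧ a ≠ c ∧ a ≠ d ∧ b ≠ c ∧ b ≠ d ∧ c ≠ d ∧ σ = swap a b * swap c d

theorem sign_two {a b c d : Fin n} (hab : a ≠ b) (hcd : c ≠ d) :
    swap a b * swap c d ∈ alternatingGroup (Fin n) := by
  rw [Perm.mem_alternatingGroup, map_mul, Perm.sign_swap hab, Perm.sign_swap hcd]
  rfl

theorem disjoint_swaps {a b c d : Fin n} (hab : a ≠ b) (hac : a ≠ c) (had : a ≠ d) (hbc : b ≠ c)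
    (hbd : b ≠ d) (hcd : c ≠ d) : (swap a b).Disjoint (swap c d) := by
  rw [Perm.disjoint_iff_disjoint_support, Perm.support_swap hab, Perm.support_swap hcd]
  simp [hac.symm, had.symm, hbc.symm, hbd.symm]

theorem IsDouble.conj {σ τ : Perm (Fin n)} (hσ : IsDouble σ) (hτ : IsDouble τ) :
    ∃ g : Perm (Fin n), g ∈ alternatingGroup (Fin n) ∧ g * σ * g⁻¹ = τ := by
  have key : ∀ {ρ : Perm (Fin n)}, IsDouble ρ → ρ.cycleType = {2, 2} := by
    rintro ρ ⟨a, b, c, d, hab, hac, had, hbc, hbd, hcd, rfl⟩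
    have hd := disjoint_swaps hab hac had hbc hbd hcd
    rw [hd.cycleType_mul, (Perm.swap_isSwap_iff.2 hab).isCycle.cycleType,
      (Perm.swap_isSwap_iff.2 hcd).isCycle.cycleType, Perm.card_support_swap hab,
      Perm.card_support_swap hcd]
    rfl
  obtain ⟨g, hg⟩ := isConj_iff.1 (Perm.isConj_iff_cycleType_eq.2 ((key hσ).trans (key hτ).symm))
  rcases Int.units_eq_one_or (Perm.sign g) with hs | hs
  · exact ⟨g, Perm.mem_alternatingGroup.2 hs, hg⟩
  obtain ⟨a, b, c, d, hab, hac, had, hbc, hbd, hcd, rfl⟩ := hσ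
  have hc : swap a b * swap c d = swap c d * swap a b :=
    (disjoint_swaps hab hac had hbc hbd hcd).commute.eq
  refine ⟨g * swap a b, Perm.mem_alternatingGroup.2 ?_, ?_⟩
  · rw [map_mul, hs, Perm.sign_swap hab]; rfl
  · rw [← hg, mul_inv_rev, swap_inv]
    have : swap a b * (swap a b * swap c d) * swap a b = swap a b * swap c d := by
      rw [swap_mul_self_mul, hc]
    rw [show g * swap a b * (swap a b * swap c d) * (swap a b * g⁻¹) =
      g * (swap a b * (swap a b * swap c d) * swap a b) * g⁻¹ by simp only [mul_assoc], this]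

/-- The product of two of the three double transpositions on four points is the third. -/
theorem klein {a b c d : Fin n} (hab : a ≠ b) (hac : a ≠ c) (had : a ≠ d) (hbc : b ≠ c) (hbd : b ≠ d)
    (hcd : c ≠ d) : swap a b * swap c d * (swap a c * swap b d) = swap a d * swap b c := by
  refine Equiv.ext fun i => ?_
  simp only [Perm.coe_mul, Function.comp_apply]
  by_cases h1 : i = a
  · subst h1; simp [swap_apply_of_ne_of_ne, hab, hab.symm, hac, hac.symm, had, had.symm, hbc, hbc.symm,
      hbd, hbd.symm, hcd, hcd.symm]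
  by_cases h2 : i = b
  · subst h2; simp [swap_apply_of_ne_of_ne, hab, hab.symm, hac, hac.symm, had, had.symm, hbc, hbc.symm,
      hbd, hbd.symm, hcd, hcd.symm]
  by_cases h3 : i = c
  · subst h3; simp [swap_apply_of_ne_of_ne, hab, hab.symm, hac, hac.symm, had, had.symm, hbc, hbc.symm,
      hbd, hbd.symm, hcd, hcd.symm]
  by_cases h4 : i = d
  · subst h4; simp [swap_apply_of_ne_of_ne, hab, hab.symm, hac, hac.symm, had, had.symm, hbc, hbc.symm,
      hbd, hbd.symm, hcd, hcd.symm]
  simp [swap_apply_of_ne_of_ne, h1, h2, h3, h4]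

/-- Moving a transposition across another one. -/
theorem swap_conj_mul (a b i j : Fin n) :
    swap a b * swap i j * swap a b = swap (swap a b i) (swap a b j) := by
  rw [swap_apply_apply, swap_inv]

variable {H : Type*} [Group H] (π : H →* alternatingGroup (Fin n)) (z : H)

/-- The data of a central extension by a subgroup of order two. -/
structure Ext : Prop where
  surj : Function.Surjective π
  central : ∀ h : H, h * z = z * h
  sq : z * z = 1
  ne : z ≠ 1
  proj : π z = 1
  ker : ∀ h : H, π h = 1 → h = 1 ∨ h = z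

variable {π z}

theorem Ext.lift_eq (E : Ext π z) {c c' : H} (h : π c = π c') : c' = c ∨ c' = c * z := by
  rcases E.ker (c⁻¹ * c') (by rw [map_mul, map_inv, h, inv_mul_cancel]) with e | e
  · exact Or.inl (inv_mul_eq_one.1 e).symm
  · exact Or.inr (eq_mul_of_inv_mul_eq e)

theorem Ext.sq_eq (E : Ext π z) {c c' : H} (h : π c = π c') : c' * c' = c * c := by
  rcases E.lift_eq h with rfl | rfl
  · rfl
  · rw [← mul_assoc, mul_assoc c z c, ← E.central c, ← mul_assoc, mul_assoc (c * c), E.sq, mul_one]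

theorem Ext.conj_sq (E : Ext π z) {c c' g : H} (h : π g * π c * (π g)⁻¹ = π c')
    (hc : c * c = 1) : c' * c' = 1 := by
  rw [E.sq_eq (c := g * c * g⁻¹) (c' := c') (by rw [map_mul, map_mul, map_inv, h]),
    show g * c * g⁻¹ * (g * c * g⁻¹) = g * (c * c) * g⁻¹ by group, hc, mul_one, mul_inv_cancel]

/-- An involutory lift of a double transposition makes all such lifts involutions. -/
theorem Ext.all_sq (E : Ext π z) {c c' : H} (hc : IsDouble (π c : Perm (Fin n))) (h : c * c = 1)
    (hc' : IsDouble (π c' : Perm (Fin n))) : c' * c' = 1 := by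
  obtain ⟨g, hg, e⟩ := hc.conj hc'
  obtain ⟨k, hk⟩ := E.surj ⟨g, hg⟩
  refine E.conj_sq (g := k) (Subtype.ext ?_) h
  rw [hk]
  exact e

theorem Ext.cube_fix (E : Ext π z) (c : H) (h : π c ^ 3 = 1) :
    ∃ c' : H, π c' = π c ∧ c' ^ 3 = 1 := by
  rcases E.ker (c ^ 3) (by rw [map_pow, h]) with e | e
  · exact ⟨c, rfl, e⟩
  · refine ⟨c * z, by rw [map_mul, E.proj, mul_one], ?_⟩
    rw [(show Commute c z from E.central c).mul_pow, e, pow_succ, pow_two, E.sq, one_mul, E.sq]

section Split

variable {m : ℕ} {π : H →* alternatingGroup (Fin (m + 3))}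

theorem double_gen {i : ℕ} (h1 : 1 ≤ i) (hi : i < m + 1) :
    IsDouble (gen m i : Perm (Fin (m + 3))) := by
  rw [gen_val (by omega)]
  unfold adj
  rw [dif_pos (by omega), dif_pos (by omega)]
  exact ⟨⟨0, by omega⟩, ⟨0 + 1, by omega⟩, ⟨i + 1, by omega⟩, ⟨i + 1 + 1, by omega⟩,
    by simp, by simp, by simp, by simp [Fin.ext_iff]; omega, by simp [Fin.ext_iff],
    by simp [Fin.ext_iff], rfl⟩

theorem double_far {i j : ℕ} (hij : i + 1 < j) (hj : j < m + 1) :
    IsDouble ((gen m i : Perm (Fin (m + 3))) * (gen m j : Perm (Fin (m + 3)))) := by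
  rw [gen_val (by omega), gen_val (by omega)]
  unfold adj
  rw [dif_pos (by omega), dif_pos (by omega), dif_pos (by omega)]
  rcases Nat.eq_zero_or_pos i with rfl | hi
  · refine ⟨⟨0, by omega⟩, ⟨2, by omega⟩, ⟨j + 1, by omega⟩, ⟨j + 1 + 1, by omega⟩,
      by simp, by simp, by simp, by simp [Fin.ext_iff]; omega, by simp [Fin.ext_iff]; omega,
      by simp [Fin.ext_iff], ?_⟩
    rw [← mul_assoc, swap_conj_mul]
    simp [swap_apply_def, Fin.ext_iff]
    try rw [swap_comm ⟨j + 1 + 1, _⟩]
  · refine ⟨⟨i + 1, by omega⟩, ⟨i + 1 + 1, by omega⟩, ⟨j + 1, by omega⟩, ⟨j + 1 + 1, by omega⟩,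
      by simp [Fin.ext_iff], by simp [Fin.ext_iff]; omega, by simp [Fin.ext_iff]; omega,
      by simp [Fin.ext_iff]; omega, by simp [Fin.ext_iff]; omega, by simp [Fin.ext_iff], ?_⟩
    rw [← mul_assoc, swap_conj_mul,
      swap_apply_of_ne_of_ne (by simp [Fin.ext_iff]) (by simp [Fin.ext_iff]; omega),
      swap_apply_of_ne_of_ne (by simp [Fin.ext_iff]) (by simp [Fin.ext_iff])]

/-- If lifts of double transpositions are involutions the extension splits. -/
theorem Ext.split (E : Ext π z) (h : ∀ c : H, IsDouble (π c : Perm (Fin (m + 3))) → c * c = 1) :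
    ∃ K : Subgroup H, Finite K ∧ K.map π = ⊤ ∧
      2 * Nat.card K ≤ (m + 3).factorial := by
  classical
  choose l hl using fun i => E.surj (gen m i)
  obtain ⟨y0, hy0, hy0c⟩ := E.cube_fix (l 0) (by rw [hl]; exact (gen_rel m).cube (by omega))
  let fix' : H → H → H := fun p d => if (p * d) ^ 3 = 1 then d else d * z
  let y : ℕ → H := fun i => Nat.rec y0 (fun i p => fix' p (l (i + 1))) i
  have hy : ∀ i, π (y i) = gen m i := by
    rintro (_ | i)
    · exact hy0.trans (hl 0)
    · show π (fix' (y i) (l (i + 1))) = _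
      simp only [fix']
      split_ifs
      · exact hl _
      · rw [map_mul, E.proj, mul_one, hl]
  have hrel : Rel y (m + 1) := by
    refine ⟨fun _ => hy0c, fun i hi hin => ?_, fun i hi => ?_, fun i j hij hj => ?_⟩
    · rw [pow_two]
      exact h _ (by rw [hy]; exact double_gen hi hin)
    · have h3 : π ((y i * l (i + 1)) ^ 3) = 1 := by
        rw [map_pow, map_mul, hy, hl]; exact (gen_rel m).braid i hi
      show (y i * fix' (y i) (l (i + 1))) ^ 3 = 1
      simp only [fix']
      split_ifs with hc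
      · exact hc
      · rw [← mul_assoc, (show Commute (y i * l (i + 1)) z from E.central _).mul_pow,
          (E.ker _ h3).resolve_left hc, pow_succ, pow_two, E.sq, one_mul, E.sq]
    · rw [pow_two]
      exact h _ (by rw [map_mul, hy, hy, Subgroup.coe_mul]; exact double_far hij hj)
  obtain ⟨hfin, hcard⟩ := card_bound (m + 1) y hrel
  refine ⟨_, hfin, ?_, hcard⟩
  rw [MonoidHom.map_closure, Set.image_image, ← gen_closure m]
  congr 1
  exact Set.image_congr fun i _ => hy i

end Split

/-- No section: lifts of double transpositions square to the central involution. -/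
theorem Ext.double_sq [Finite H] (hn : 3 ≤ n) (E : Ext π z)
    (hns : ∀ L : Subgroup H, ¬ (zpowers z).IsComplement' L)
    {c : H} (hc : IsDouble (π c : Perm (Fin n))) : c * c = z := by
  obtain ⟨m, rfl⟩ : ∃ m, n = m + 3 := ⟨n - 3, by omega⟩
  have h2 : π (c * c) = 1 := by
    obtain ⟨a, b, c', d, hab, hac, had, hbc, hbd, hcd, e⟩ := hc
    refine Subtype.ext ?_
    rw [map_mul, Subgroup.coe_mul, e, Subgroup.coe_one]
    have hd := disjoint_swaps hab hac had hbc hbd hcd
    rw [← pow_two, hd.commute.mul_pow, pow_two, pow_two, swap_mul_self, swap_mul_self, one_mul]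
  refine (E.ker _ h2).resolve_left fun h1 => ?_
  obtain ⟨K, hfin, hmap, hcard⟩ := E.split fun c' hc' => E.all_sq hc h1 hc'
  have hA : 2 * Nat.card (alternatingGroup (Fin (m + 3))) = (m + 3).factorial := by
    haveI : Nontrivial (Fin (m + 3)) := Fin.nontrivial_iff_two_le.2 (by omega)
    rw [nat_card_alternatingGroup, Nat.card_fin,
      Nat.mul_div_cancel' (Nat.dvd_factorial two_pos (by omega))]
  have hbij : Function.Bijective (π.comp K.subtype) := by
    refine Function.Surjective.bijective_of_nat_card_le (fun x => ?_) (by omega)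
    obtain ⟨k, hk, rfl⟩ : x ∈ K.map π := hmap ▸ mem_top x
    exact ⟨⟨k, hk⟩, rfl⟩
  refine hns K (isComplement'_of_disjoint_and_mul_eq_univ ?_ (Set.eq_univ_of_forall fun x => ?_))
  · rw [disjoint_def]
    intro x hx hxK
    have h1x : π x = 1 := by
      obtain ⟨k, rfl⟩ := mem_zpowers_iff.1 hx
      rw [map_zpow, E.proj, one_zpow]
    exact congrArg Subtype.val (hbij.1 (a₁ := (⟨x, hxK⟩ : K)) (a₂ := 1)
      (h1x.trans (map_one (π.comp K.subtype)).symm))
  · obtain ⟨k, hk⟩ := hbij.2 (π x)
    refine ⟨x * (k : H)⁻¹, ?_, k, k.2, inv_mul_cancel_right _ _⟩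
    rcases E.ker (x * (k : H)⁻¹) (by
      rw [map_mul, map_inv, ← hk]; exact mul_inv_cancel _) with e | e
    · rw [e]; exact one_mem _
    · rw [e]; exact mem_zpowers z

theorem Ext.commute_of_cube (E : Ext π z) {c e : H} (h3 : π c ^ 3 = 1)
    (hcomm : π c * π e = π e * π c) : c * e = e * c := by
  rcases E.lift_eq (c := e) (c' := c * e * c⁻¹)
      (by rw [map_mul, map_mul, map_inv, hcomm, mul_inv_cancel_right]) with h | h
  · exact mul_inv_eq_iff_eq_mul.1 h
  exfalso
  have h2 : c * (c * e * c⁻¹) * c⁻¹ = e := by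
    rw [h, ← mul_assoc, mul_assoc (c * e), ← E.central c⁻¹, ← mul_assoc, h, mul_assoc, E.sq, mul_one]
  have h1 : c ^ 3 * e = e * c ^ 3 := by
    rcases E.ker (c ^ 3) (by rw [map_pow, h3]) with e' | e' <;> rw [e']
    · rw [one_mul, mul_one]
    · rw [E.central]
  have h4 : c ^ 3 * e * (c ^ 3)⁻¹ = e * z := by
    rw [show c ^ 3 * e * (c ^ 3)⁻¹ = c * (c * (c * e * c⁻¹) * c⁻¹) * c⁻¹ by
      rw [pow_succ, pow_two]; group, h2, h]
  rw [h1, mul_inv_cancel_right] at h4
  exact E.ne (left_eq_mul.1 h4)

/-- Above any involution of the alternating group some element of the centraliser moves the lift. -/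
theorem Ext.exists_noncommuting [Finite H] (E : Ext π z) (hn : 3 ≤ n)
    (hns : ∀ L : Subgroup H, ¬ (zpowers z).IsComplement' L)
    {x : H} (h2 : π x * π x = 1) (h1 : π x ≠ 1) :
    ∃ g : H, π g * π x = π x * π g ∧ g * x ≠ x * g := by
  set σ : Perm (Fin n) := (π x).1 with hσ
  have hσ2 : ∀ i, σ (σ i) = i := fun i => by
    have := congrArg (fun ρ : alternatingGroup (Fin n) => (ρ : Perm (Fin n)) i) h2
    simpa using this
  obtain ⟨a, ha⟩ : ∃ a, σ a ≠ a := by
    by_contra h
    push Not at h
    exact h1 (Subtype.ext (Equiv.ext h))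
  obtain ⟨c, hca, hcb, hc⟩ : ∃ c, c ≠ a ∧ c ≠ σ a ∧ σ c ≠ c := by
    by_contra h
    push Not at h
    have e : σ = swap a (σ a) := by
      refine Equiv.ext fun i => ?_
      by_cases hia : i = a
      · rw [hia, swap_apply_left]
      by_cases hib : i = σ a
      · rw [hib, swap_apply_right, hσ2]
      rw [swap_apply_of_ne_of_ne hia hib]
      exact h i hia hib
    have hs : Perm.sign σ = 1 := (π x).2
    rw [e, Perm.sign_swap ha.symm] at hs
    exact absurd hs (by decide)
  set b := σ a with hb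
  set d := σ c with hd
  have hab : a ≠ b := ha.symm
  have hcd : c ≠ d := hc.symm
  have had : a ≠ d := fun e => hcb (by rw [hb, e, hd, hσ2])
  have hbd : b ≠ d := fun e => hca (σ.injective e).symm
  set τ : Perm (Fin n) := swap a b * swap c d with hτ
  set ρ : Perm (Fin n) := τ * σ with hρ
  have hτA := sign_two (n := n) hab hcd
  obtain ⟨ta, hta⟩ := E.surj ⟨τ, hτA⟩
  obtain ⟨g, hg⟩ := E.surj ⟨swap a c * swap b d, sign_two hca.symm hbd⟩
  obtain ⟨r, hr⟩ : ∃ r : H, π r = π ta * π x := ⟨ta * x, map_mul _ _ _⟩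
  have hρa : ∀ i, i = a ∨ i = b ∨ i = c ∨ i = d → ρ i = i := by
    have hσb : σ b = a := by rw [hb, hσ2]
    have hσd : σ d = c := by rw [hd, hσ2]
    rintro i (rfl | rfl | rfl | rfl) <;> simp only [hρ, hτ, Perm.coe_mul, Function.comp_apply]
    · rw [← hb, swap_apply_of_ne_of_ne hcb.symm hbd, swap_apply_right]
    · rw [hσb, swap_apply_of_ne_of_ne hca.symm had, swap_apply_left]
    · rw [← hd, swap_apply_right, swap_apply_of_ne_of_ne hca hcb]
    · rw [hσd, swap_apply_left, swap_apply_of_ne_of_ne had.symm hbd.symm]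
  have hswap : ∀ i j, ρ i = i → ρ j = j → swap i j * ρ = ρ * swap i j := fun i j hi hj => by
    have := swap_apply_apply ρ i j
    rw [hi, hj] at this
    conv_lhs => rw [this]
    rw [inv_mul_cancel_right]
  -- three-cycles on the four points commute with the lift of the rest
  have h3 : ∀ {p q s : Fin n}, p ≠ q → p ≠ s → q ≠ s → ρ p = p → ρ q = q → ρ s = s →
      ∀ k : H, (π k : Perm (Fin n)) = swap p q * swap p s → k * r = r * k := by
    intro p q s hpq hps hqs hp hq hsx k hk
    refine E.commute_of_cube ?_ (Subtype.ext ?_)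
    · refine Subtype.ext ?_
      rw [SubgroupClass.coe_pow, hk, Subgroup.coe_one,
        ← (Perm.isThreeCycle_swap_mul_swap_same hpq hps hqs).orderOf, pow_orderOf_eq_one]
    · have hrρ : ((π r : alternatingGroup (Fin n)) : Perm (Fin n)) = ρ := by
        rw [hr, Subgroup.coe_mul, hta]
      rw [Subgroup.coe_mul, Subgroup.coe_mul, hrρ, hk, mul_assoc,
        hswap p s hp hsx, ← mul_assoc, hswap p q hp hq, mul_assoc]
  obtain ⟨k₁, hk₁⟩ := E.surj ⟨swap a c * swap a b, sign_two hca.symm hab⟩
  obtain ⟨k₂, hk₂⟩ := E.surj ⟨swap a b * swap b d, sign_two hab hbd⟩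
  have hgr : g * r = r * g := by
    have e1 : k₁ * r = r * k₁ := h3 hca.symm hab hcb
      (hρa _ (Or.inl rfl)) (hρa _ (Or.inr (Or.inr (Or.inl rfl)))) (hρa _ (Or.inr (Or.inl rfl))) k₁
      (congrArg Subtype.val hk₁)
    have e2 : k₂ * r = r * k₂ := h3 hab.symm hbd had
      (hρa _ (Or.inr (Or.inl rfl))) (hρa _ (Or.inl rfl)) (hρa _ (Or.inr (Or.inr (Or.inr rfl)))) k₂
      (by rw [hk₂]; show swap a b * swap b d = _; rw [swap_comm a b])
    have e12 : k₁ * k₂ * r = r * (k₁ * k₂) := by
      rw [mul_assoc, e2, ← mul_assoc, e1, mul_assoc]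
    rcases E.lift_eq (c := k₁ * k₂) (c' := g) (Subtype.ext (by
        rw [map_mul, hk₁, hk₂, hg, Subgroup.coe_mul]
        show swap a c * swap a b * (swap a b * swap b d) = swap a c * swap b d
        rw [mul_assoc, swap_mul_self_mul])) with h | h
    · rw [h, e12]
    · rw [h, mul_assoc, ← E.central r, ← mul_assoc, e12, mul_assoc]
  have hdj : ∀ {p q s t : Fin n}, p ≠ q → p ≠ s → p ≠ t → q ≠ s → q ≠ t → s ≠ t →
      swap p q * swap s t = swap s t * swap p q :=
    fun h1 h2 h3 h4 h5 h6 => (disjoint_swaps h1 h2 h3 h4 h5 h6).commute.eq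
  have hprod := klein hab hca.symm had hcb.symm hbd hcd
  have hgτ : π g * π ta = π ta * π g := by
    refine Subtype.ext ?_
    rw [hg, hta]
    show swap a c * swap b d * (swap a b * swap c d) = swap a b * swap c d * (swap a c * swap b d)
    rw [hprod, klein hca.symm hab had hcb hcd hbd, swap_comm b c]
  have hga : g * ta ≠ ta * g := by
    intro e
    have d1 : ta * ta = z := E.double_sq hn hns
      (by rw [hta]; exact ⟨a, b, c, d, hab, hca.symm, had, hcb.symm, hbd, hcd, rfl⟩)
    have d2 : g * g = z := E.double_sq hn hns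
      (by rw [hg]; exact ⟨a, c, b, d, hca.symm, hab, had, hcb, hcd, hbd, rfl⟩)
    have d3 : ta * g * (ta * g) = z := E.double_sq hn hns (by
      rw [map_mul, Subgroup.coe_mul, hg, hta]
      exact ⟨a, d, b, c, had, hab, hca.symm, hbd.symm, hcd.symm, hcb.symm, hprod⟩)
    rw [mul_assoc, ← mul_assoc g, e, mul_assoc ta g g, d2, ← mul_assoc, d1, E.sq] at d3
    exact E.ne d3.symm
  refine ⟨g, ?_, fun e => hga ?_⟩
  · have e := congrArg π hgr
    rw [map_mul, map_mul, hr] at e
    rw [← mul_assoc, hgτ, mul_assoc, mul_assoc] at e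
    exact mul_left_cancel e
  · -- `ta` differs from `r * x` by a central element
    have hx : π x = π ta * π r := by
      rw [hr, ← mul_assoc]
      have : π ta * π ta = 1 := by
        refine Subtype.ext ?_
        rw [Subgroup.coe_mul, hta, Subgroup.coe_one]
        show swap a b * swap c d * (swap a b * swap c d) = 1
        rw [mul_assoc, ← mul_assoc (swap c d), ← hdj hab hca.symm had hcb.symm hbd hcd,
          mul_assoc (swap a b), swap_mul_self, mul_one, swap_mul_self]
      rw [this, one_mul]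
    have hta' : π ta = π x * (π r)⁻¹ := by rw [hx, mul_inv_cancel_right]
    have e3 : g * (x * r⁻¹) = x * r⁻¹ * g := by
      rw [← mul_assoc, e, mul_assoc, mul_assoc x, (show Commute g r from hgr).inv_right.eq]
    rcases E.lift_eq (c := x * r⁻¹) (c' := ta) (by rw [map_mul, map_inv, hta']) with h | h
    · rw [h, e3]
    · rw [h, ← mul_assoc, e3, mul_assoc (x * r⁻¹) g z, E.central g, ← mul_assoc]

/-- A lift centralised by a Sylow subgroup maps to the identity. -/
theorem Ext.center_sylow [Finite H] (E : Ext π z) (hn : 3 ≤ n)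
    (hns : ∀ L : Subgroup H, ¬ (zpowers z).IsComplement' L)
    (S : Sylow 2 H) {x : H} (hxS : x ∈ (S : Subgroup H))
    (hc : ∀ y ∈ (S : Subgroup H), x * y = y * x) : π x = 1 := by
  haveI : Fact (Nat.Prime 2) := ⟨Nat.prime_two⟩
  by_contra hne
  obtain ⟨j, hj⟩ := S.2 ⟨x, hxS⟩
  have hj' : π x ^ 2 ^ j = 1 := by
    rw [← map_pow, show x ^ 2 ^ j = 1 from congrArg Subtype.val hj, map_one]
  obtain ⟨y, hyS, hyc, hy1, hy2⟩ : ∃ y ∈ (S : Subgroup H),
      (∀ s ∈ (S : Subgroup H), y * s = s * y) ∧ π y ≠ 1 ∧ π y * π y = 1 := by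
    clear hj
    induction j generalizing x with
    | zero => exact absurd (by simpa using hj') hne
    | succ j ih =>
      by_cases h : π x * π x = 1
      · exact ⟨x, hxS, hc, hne, h⟩
      · refine ih (x := x * x) (mul_mem hxS hxS) (fun s hs => ?_) (by rwa [map_mul]) ?_
        · rw [mul_assoc, hc s hs, ← mul_assoc, hc s hs, mul_assoc]
        · rw [map_mul, ← _root_.sq (π x), ← pow_mul]
          rwa [pow_succ'] at hj'
  obtain ⟨g, hg, hgy⟩ := E.exists_noncommuting hn hns hy2 hy1
  set C := centralizer ({y} : Set H)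
  set K := (centralizer ({π y} : Set (alternatingGroup (Fin n)))).comap π
  have hgK : g ∈ K := mem_centralizer_singleton_iff.2 hg
  have hgC : g ∉ C := fun h => hgy (mem_centralizer_singleton_iff.1 h)
  have hCK : C ≤ K := fun h hh => mem_centralizer_singleton_iff.2 (by
    rw [← map_mul, ← map_mul, mem_centralizer_singleton_iff.1 hh])
  have hflip : ∀ k ∈ K, k ∉ C → k * y * k⁻¹ = y * z := fun k hk hkC =>
    (E.lift_eq (c := y) (c' := k * y * k⁻¹) (by
      rw [map_mul, map_mul, map_inv, mem_centralizer_singleton_iff.1 hk, mul_inv_cancel_right])).resolve_left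
      fun h => hkC (mem_centralizer_singleton_iff.2 (mul_inv_eq_iff_eq_mul.1 h))
  have hrel : C.relIndex K = 2 := by
    refine index_eq_two_iff.2 ⟨⟨g, hgK⟩, fun k => ?_⟩
    simp only [mem_subgroupOf, Subgroup.coe_mul]
    by_cases hk : (k : H) ∈ C
    · refine Or.inr ⟨hk, fun h => hgC ?_⟩
      simpa using mul_mem (inv_mem hk) h
    · refine Or.inl ⟨?_, hk⟩
      rw [mem_centralizer_singleton_iff]
      rw [← mul_inv_eq_iff_eq_mul,
        show (k : H) * g * y * ((k : H) * g)⁻¹ = k * (g * y * g⁻¹) * (k : H)⁻¹ by group, hflip g hgK hgC,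
        show (k : H) * (y * z) * (k : H)⁻¹ = k * y * (z * (k : H)⁻¹) by group,
        ← E.central (k : H)⁻¹, ← mul_assoc, hflip k k.2 hk, mul_assoc, E.sq, mul_one]
  have hSC : (S : Subgroup H) ≤ C := fun s hs => mem_centralizer_singleton_iff.2 (hyc s hs).symm
  have h2 : 2 ∣ (S : Subgroup H).index :=
    (hrel ▸ Dvd.intro _ (relIndex_mul_index hCK)).trans (index_dvd_of_le hSC)
  exact S.not_dvd_index h2

end CfsgLib.LyFusion
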