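import Cfsg.Agent.LyFusion.Lift
import Cfsg.Agent.Fusion.SimpleCriterion
import Cfsg.Agent.Fusion.AltSimple
import Cfsg.Agent.Invol.IsolatedApps
import Cfsg.Prelude.Def_SporadicB

/-!
A simple group with an involution whose centralizer has odd index and is a non-split double cover
of an alternating group of degree at least six has simple 2-fusion system.
-/

set_option autoImplicit false
set_option linter.unusedSectionVars false
set_option linter.style.haveILetI false

namespace CfsgLib.LyFusion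

open Subgroup

theorem exists_central_of_normal {Q : Type*} [Group Q] [Finite Q] (hQ : IsPGroup 2 Q)
    (K : Subgroup Q) [K.Normal] (hK : K ≠ ⊥) :
    ∃ x ∈ K, x ≠ 1 ∧ ∀ g : Q, x * g = g * x := by
  haveI : Fact (Nat.Prime 2) := ⟨Nat.prime_two⟩
  haveI : Nontrivial K := (Subgroup.nontrivial_iff_ne_bot K).2 hK
  have hdvd : 2 ∣ Nat.card K := by
    obtain ⟨m, hm, e⟩ := IsPGroup.nontrivial_iff_card (hQ.to_subgroup K) |>.1 inferInstance
    rw [e]
    exact dvd_pow_self 2 hm.ne'
  have h1 : (1 : K) ∈ MulAction.fixedPoints (ConjAct Q) K := fun g => smul_one g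
  obtain ⟨b, hb, hb1⟩ :=
    (hQ.of_equiv ConjAct.toConjAct).exists_fixed_point_of_prime_dvd_card_of_fixed_point K hdvd h1
  refine ⟨b, b.2, fun h => hb1 (Subtype.ext h.symm), fun g => ?_⟩
  have := congrArg Subtype.val (hb (ConjAct.toConjAct g))
  change g * (b : Q) * g⁻¹ = b at this
  exact (mul_inv_eq_iff_eq_mul.1 this).symm

theorem isSimple_fusion_of_doubleCover_alt {G : Type*} [Group G] [Finite G] [IsSimpleGroup G]
    {z : G} {n : ℕ} (hn : 6 ≤ n) (hz : orderOf z = 2)
    (hodd : ¬ 2 ∣ (centralizer ({z} : Set G)).index)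
    (hD : Cfsg.IsNonsplitDoubleCover ↥(centralizer ({z} : Set G)) (alternatingGroup (Fin n)))
    (S : Sylow 2 G) : (Cfsg.groupFusionSystem (S : Subgroup G)).IsSimple 2 := by
  classical
  haveI : Fact (Nat.Prime 2) := ⟨Nat.prime_two⟩
  obtain ⟨hc2, ⟨e⟩, hns⟩ := hD
  set C := centralizer ({z} : Set G) with hC
  have hzC : z ∈ C := mem_centralizer_singleton_iff.2 rfl
  set zc : C := ⟨z, hzC⟩ with hzc
  have hz1 : z ≠ 1 := fun h => by rw [h, orderOf_one] at hz; omega
  have hzz : z * z = 1 := by rw [← _root_.sq, ← hz, pow_orderOf_eq_one]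
  have hzc1 : zc ≠ 1 := fun h => hz1 (congrArg Subtype.val h)
  have hzcent : zc ∈ center C :=
    Subgroup.mem_center_iff.2 fun g => Subtype.ext (mem_centralizer_singleton_iff.1 g.2)
  have hcen : ∀ h ∈ center C, h = 1 ∨ h = zc := fun h hh => by
    by_contra hne
    push Not at hne
    obtain ⟨y, -, hy⟩ := (Nat.card_eq_two_iff' (1 : center C)).1 hc2
    have h1 := hy ⟨h, hh⟩ fun h' => hne.1 (congrArg Subtype.val h')
    have h2 := hy ⟨zc, hzcent⟩ fun h' => hzc1 (congrArg Subtype.val h')
    exact hne.2 (congrArg Subtype.val (h1.trans h2.symm))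
  have hzp : zpowers zc = center C := by
    refine le_antisymm (zpowers_le.2 hzcent) fun h hh => ?_
    rcases hcen h hh with rfl | rfl
    · exact one_mem _
    · exact mem_zpowers _
  set π : C →* alternatingGroup (Fin n) := e.toMonoidHom.comp (QuotientGroup.mk' (center C)) with hπ
  have hker : ∀ h : C, π h = 1 ↔ h ∈ center C := fun h => by
    rw [hπ, MonoidHom.comp_apply, MulEquiv.coe_toMonoidHom, map_eq_one_iff e e.injective]
    exact QuotientGroup.eq_one_iff h
  have E : Ext π zc :=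
    { surj := e.surjective.comp (QuotientGroup.mk'_surjective _)
      central := fun h => Subgroup.mem_center_iff.1 hzcent h
      sq := Subtype.ext hzz
      ne := hzc1
      proj := (hker zc).2 hzcent
      ker := fun h hh => hcen h ((hker h).1 hh) }
  have hns' : ∀ L : Subgroup C, ¬ (zpowers zc).IsComplement' L := by rwa [hzp]
  obtain ⟨Pc⟩ : Nonempty (Sylow 2 C) := Sylow.nonempty
  have hzPc : zc ∈ (Pc : Subgroup C) := by
    have h2 : IsPGroup 2 (center C) := IsPGroup.of_card (n := 1) (by rw [hc2, pow_one])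
    exact (Pc.3 (Pc.2.to_sup_of_normal_right h2) le_sup_left).le (mem_sup_right hzcent)
  obtain ⟨P, hP⟩ : ∃ P : Sylow 2 G, (P : Subgroup G) = (Pc : Subgroup C).map C.subtype := by
    refine ⟨(Pc.2.map C.subtype).toSylow ?_, rfl⟩
    rw [index_map_subtype]
    exact fun h => ((Nat.prime_two.dvd_mul).1 h).elim Pc.not_dvd_index hodd
  have hzP : z ∈ (P : Subgroup G) := hP ▸ ⟨zc, hzPc, rfl⟩
  set Pb : Sylow 2 (alternatingGroup (Fin n)) := Pc.mapSurjective E.surj with hPb
  have hPbc : (Pb : Subgroup (alternatingGroup (Fin n))) = (Pc : Subgroup C).map π := rfl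
  have hcent : ∀ x ∈ (P : Subgroup G), (∀ y ∈ (P : Subgroup G), x * y = y * x) → x = 1 ∨ x = z := by
    intro x hx hxc
    rw [hP] at hx hxc
    obtain ⟨x, hx, rfl⟩ := hx
    have h1 : π x = 1 := E.center_sylow (by omega) hns' Pc hx fun y hy =>
      Subtype.ext (hxc y ⟨y, hy, rfl⟩)
    rcases E.ker x h1 with rfl | rfl
    · exact Or.inl rfl
    · exact Or.inr rfl
  refine CfsgLib.Fusion.isSimple_groupFusion_of_central P hzP hz1 hcent ?_ ?_ S
  · -- the generation statement
    intro T hzT hcl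
    obtain ⟨x, hxT, hxP, hx1, hxz⟩ : ∃ x ∈ T, x ∈ (P : Subgroup G) ∧ x ≠ 1 ∧ x ≠ z := by
      by_contra hno
      push Not at hno
      have hiso : Cfsg.IsIsolatedInvolution z := by
        refine ⟨hz, fun g hcomm => ?_⟩
        set w := g * z * g⁻¹ with hw
        have hwC : w ∈ C := mem_centralizer_singleton_iff.2 hcomm.eq.symm
        have hw2 : (⟨w, hwC⟩ : C) * ⟨w, hwC⟩ = 1 := Subtype.ext (by
          show w * w = 1
          rw [hw, show g * z * g⁻¹ * (g * z * g⁻¹) = g * (z * z) * g⁻¹ by group, hzz, mul_one,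
            mul_inv_cancel])
        have hwp : IsPGroup 2 (zpowers (⟨w, hwC⟩ : C)) := by
          rintro ⟨_, i, rfl⟩
          refine ⟨1, Subtype.ext ?_⟩
          show ((⟨w, hwC⟩ : C) ^ i) ^ (2 ^ 1) = 1
          rw [← zpow_natCast, ← zpow_mul, mul_comm, zpow_mul, zpow_natCast, pow_one, _root_.sq, hw2,
            one_zpow]
        obtain ⟨R, hR⟩ := hwp.exists_le_sylow
        obtain ⟨c, hc⟩ := MulAction.exists_smul_eq C R Pc
        have hmem : c * ⟨w, hwC⟩ * c⁻¹ ∈ (Pc : Subgroup C) := by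
          rw [← hc]
          exact ⟨_, hR (mem_zpowers _), rfl⟩
        have hwP : (c : G) * w * (c : G)⁻¹ ∈ (P : Subgroup G) := hP ▸ ⟨_, hmem, rfl⟩
        have hwc : (c : G) * w * (c : G)⁻¹ = ((c : G) * g) * z * ((c : G) * g)⁻¹ := by
          rw [hw]; group
        have hwT : (c : G) * w * (c : G)⁻¹ ∈ T := by
          rw [hwc] at hwP ⊢
          exact hcl z hzT _ hwP
        have hwz : (c : G) * w * (c : G)⁻¹ = z := hno _ hwT hwP fun h => hz1 (by
          rw [hwc] at h
          exact conj_eq_one_iff.1 h)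
        have hcz : (c : G) * z = z * (c : G) := mem_centralizer_singleton_iff.1 c.2
        rw [show w = (c : G)⁻¹ * ((c : G) * w * (c : G)⁻¹) * (c : G) by group, hwz, mul_assoc, ← hcz,
          inv_mul_cancel_left]
      have hO : ∀ g : G, z * g * z⁻¹ * g⁻¹ ∈ Cfsg.oddCore G := CfsgLib.IsoApps.comm_mem_oddCore hiso
      have hnorm : (Cfsg.oddCore G).Normal :=
        CfsgLib.Solvable.pPrimeCore_normal 2
      rcases hnorm.eq_bot_or_eq_top with hb | ht
      · have hzG : ∀ g : G, g * z = z * g := fun g => by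
          have h := hO g
          rw [hb, mem_bot, mul_inv_eq_one, mul_inv_eq_iff_eq_mul] at h
          exact h.symm
        have hcG : center G = ⊤ :=
          (Subgroup.instNormalCenter.eq_bot_or_eq_top).resolve_left fun h =>
            hz1 (mem_bot.1 (h ▸ Subgroup.mem_center_iff.2 hzG))
        have htriv : ∀ a : alternatingGroup (Fin n), a = 1 := fun a => by
          obtain ⟨h, rfl⟩ := E.surj a
          have hh : (h : G) ∈ center G := by rw [hcG]; exact Subgroup.mem_top _
          exact (hker h).2 (Subgroup.mem_center_iff.2 fun g => Subtype.ext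
            (Subgroup.mem_center_iff.1 hh g))
        haveI : Subsingleton (alternatingGroup (Fin n)) := ⟨fun a b => (htriv a).trans (htriv b).symm⟩
        haveI : Nontrivial (alternatingGroup (Fin n)) :=
          alternatingGroup.nontrivial_of_three_le_card (by simp; omega)
        exact not_subsingleton (alternatingGroup (Fin n)) inferInstance
      · have h2 := CfsgLib.IsoApps.odd_oddCore (G := G)
        rw [ht, card_top] at h2
        have hd : (2 : ℕ) ∣ Nat.card G := hz ▸ orderOf_dvd_natCard z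
        exact (Nat.not_even_iff_odd.2 h2) (even_iff_two_dvd.2 hd)
    -- the image in the alternating group
    set T' := (((T ⊓ (P : Subgroup G)).comap C.subtype).map π) with hT'
    have hPmem : ∀ a : C, π a ∈ (Pb : Subgroup (alternatingGroup (Fin n))) → a ∈ (Pc : Subgroup C) := by
      intro a ha
      rw [hPbc] at ha
      obtain ⟨b, hb, hab⟩ := ha
      rcases E.lift_eq hab with rfl | rfl
      · exact hb
      · exact mul_mem hb hzPc
    have hcl' : ∀ t ∈ T', ∀ g : alternatingGroup (Fin n),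
        g * t * g⁻¹ ∈ (Pb : Subgroup (alternatingGroup (Fin n))) → g * t * g⁻¹ ∈ T' := by
      rintro _ ⟨t, ⟨htT, -⟩, rfl⟩ g hg
      obtain ⟨g, rfl⟩ := E.surj g
      rw [← map_inv, ← map_mul, ← map_mul] at hg ⊢
      have hP' : ((g * t * g⁻¹ : C) : G) ∈ (P : Subgroup G) := hP ▸ ⟨_, hPmem _ hg, rfl⟩
      exact ⟨_, ⟨hcl _ htT _ hP', hP'⟩, rfl⟩
    have hT'le : T' ≤ (Pb : Subgroup (alternatingGroup (Fin n))) := by
      rintro _ ⟨t, ⟨-, htP⟩, rfl⟩
      rw [SetLike.mem_coe, hP] at htP
      obtain ⟨t', ht', e'⟩ := htP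
      exact ⟨t, (Subtype.ext e' : t' = t) ▸ ht', rfl⟩
    obtain ⟨xc, hxc, rfl⟩ : ∃ xc : C, xc ∈ (Pc : Subgroup C) ∧ (xc : G) = x := by
      rw [hP] at hxP
      obtain ⟨a, ha, e'⟩ := hxP
      exact ⟨a, ha, e'⟩
    have hxπ : π xc ∈ T' := ⟨xc, ⟨hxT, hxP⟩, rfl⟩
    have hxπ1 : π xc ≠ 1 := fun h => by
      rcases E.ker xc h with rfl | rfl
      · exact hx1 rfl
      · exact hxz rfl
    set K := T'.subgroupOf (Pb : Subgroup (alternatingGroup (Fin n))) with hK
    haveI : K.Normal := ⟨fun t ht g =>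
      hcl' _ ht (g : alternatingGroup (Fin n)) (g * t * g⁻¹).2⟩
    have hKne : K ≠ ⊥ := fun h => by
      have hx' : (⟨π xc, hT'le hxπ⟩ : ↥(Pb : Subgroup (alternatingGroup (Fin n)))) ∈ K := hxπ
      rw [h, mem_bot] at hx'
      exact hxπ1 (congrArg Subtype.val hx')
    obtain ⟨y, hyK, hy1, hyc⟩ := exists_central_of_normal Pb.2 K hKne
    have hle := CfsgLib.Fusion.AltChar.hgen_alt (p := 2) (by simp; omega) (by simp; omega) Pb
      (y : alternatingGroup (Fin n)) y.2 (fun g hg => congrArg Subtype.val (hyc ⟨g, hg⟩))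
      (fun h => hy1 (Subtype.ext h)) T' hyK hcl'
    intro p hp
    rw [hP] at hp
    obtain ⟨p, hp, rfl⟩ := hp
    obtain ⟨t, ⟨htT, -⟩, ht⟩ := hle (show π p ∈ (Pb : Subgroup (alternatingGroup (Fin n))) from
      ⟨p, hp, rfl⟩)
    rcases E.lift_eq ht with rfl | rfl
    · exact htT
    · exact mul_mem htT hzT
  · -- the normalizer
    intro m hm q k hq hq2 hord y _
    suffices hm1 : m = 1 by rw [hm1, one_mul, inv_one, mul_one]
    have hwP : m * z * m⁻¹ ∈ (P : Subgroup G) := (Subgroup.mem_normalizer_iff.1 hm z).1 hzP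
    have hwc : ∀ y ∈ (P : Subgroup G), m * z * m⁻¹ * y = y * (m * z * m⁻¹) := fun y hy => by
      have hy' : m⁻¹ * y * m ∈ (P : Subgroup G) := by
        have h := (Subgroup.mem_normalizer_iff.1 hm (m⁻¹ * y * m)).2
        exact h (by rwa [show m * (m⁻¹ * y * m) * m⁻¹ = y by group])
      rw [hP] at hy'
      obtain ⟨b, -, hb⟩ := hy'
      have hbz : z * (b : G) = (b : G) * z := (mem_centralizer_singleton_iff.1 b.2).symm
      rw [show y = m * (b : G) * m⁻¹ by rw [show (b : G) = m⁻¹ * y * m from hb]; group,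
        show m * z * m⁻¹ * (m * (b : G) * m⁻¹) = m * (z * b) * m⁻¹ by group, hbz]
      group
    have hmC : m ∈ C := by
      rcases hcent _ hwP hwc with h | h
      · exact absurd (conj_eq_one_iff.1 h) hz1
      · exact mem_centralizer_singleton_iff.2 (mul_inv_eq_iff_eq_mul.1 h)
    set mc : C := ⟨m, hmC⟩ with hmc
    have hordc : orderOf mc = q ^ k := by rw [← Subgroup.orderOf_coe]; exact hord
    have hnorm : π mc ∈ Subgroup.normalizer
        ((Pb : Subgroup (alternatingGroup (Fin n))) : Set (alternatingGroup (Fin n))) := by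
      have hmN : mc ∈ Subgroup.normalizer ((Pc : Subgroup C) : Set C) := by
        rw [Subgroup.mem_normalizer_iff]
        intro a
        have h := Subgroup.mem_normalizer_iff.1 hm (a : G)
        rw [hP] at h
        refine ⟨fun ha => ?_, fun ha => ?_⟩
        · obtain ⟨b, hb, e'⟩ := h.1 ⟨a, ha, rfl⟩
          exact (Subtype.ext e' : b = mc * a * mc⁻¹) ▸ hb
        · obtain ⟨b, hb, e'⟩ := h.2 ⟨_, ha, rfl⟩
          exact (Subtype.ext e' : b = a) ▸ hb
      exact hPbc ▸ Subgroup.le_normalizer_map π ⟨mc, hmN, rfl⟩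
    rw [CfsgLib.SylowAlt.alternating_sylow_two_normalizer hn Pb] at hnorm
    obtain ⟨j, hj⟩ := Pb.2 ⟨π mc, hnorm⟩
    have hj' : orderOf (π mc) ∣ 2 ^ j := orderOf_dvd_of_pow_eq_one (congrArg Subtype.val hj)
    have hk' : orderOf (π mc) ∣ q ^ k := hordc ▸ orderOf_map_dvd π mc
    have h1 : π mc = 1 := orderOf_eq_one_iff.1 (Nat.dvd_one.1 (by
      have := Nat.dvd_gcd hj' hk'
      rwa [((Nat.coprime_primes Nat.prime_two hq).2 (Ne.symm hq2)).pow j k] at this))
    rcases E.ker mc h1 with h | h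
    · exact congrArg Subtype.val h
    · have hmz : m = z := congrArg Subtype.val h
      rw [hmz, hz] at hord
      exact absurd ((Nat.prime_dvd_prime_iff_eq Nat.prime_two hq).1
        (Nat.prime_two.dvd_of_dvd_pow (dvd_of_eq hord))) (Ne.symm hq2)

end CfsgLib.LyFusion
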