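import Cfsg.Agent.LyFusion.Main
import Cfsg.Agent.Coset.Ly.G2
import Cfsg.Agent.Coset.Ly.Lower
import Cfsg.Prelude.Def_Spor_Ly

/-!
The fusion system of the Lyons group, from the centralizer of an involution.
-/

set_option autoImplicit false
set_option linter.style.haveILetI false

namespace CfsgLib.LyFusion

open Subgroup

theorem center_map_iso {H H' : Type*} [Group H] [Group H'] (φ : H ≃* H') :
    (center H).map φ.toMonoidHom = center H' := by
  ext x
  simp only [mem_map, Subgroup.mem_center_iff]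
  refine ⟨?_, fun h => ⟨φ.symm x, fun g => φ.injective ?_, φ.apply_symm_apply x⟩⟩
  · rintro ⟨y, hy, rfl⟩ g
    obtain ⟨g, rfl⟩ := φ.surjective g
    exact (map_mul φ g y).symm.trans ((congrArg φ (hy g)).trans (map_mul φ y g))
  · rw [map_mul, map_mul, φ.apply_symm_apply]
    exact h (φ g)

theorem doubleCover_congr {H H' K : Type*} [Group H] [Group H'] [Group K] (φ : H ≃* H')
    (h : Cfsg.IsNonsplitDoubleCover H K) : Cfsg.IsNonsplitDoubleCover H' K := by
  obtain ⟨h2, ⟨e⟩, hns⟩ := h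
  refine ⟨?_, ⟨(QuotientGroup.congr (center H) (center H') φ (center_map_iso φ)).symm.trans e⟩,
    fun L hL => hns (L.comap φ.toMonoidHom) ?_⟩
  · rw [← h2, ← center_map_iso φ]
    exact (Nat.card_congr ((center H).equivMapOfInjective φ.toMonoidHom φ.injective).toEquiv).symm
  · rw [← center_map_iso φ] at hL
    obtain ⟨hinj, hsurj⟩ := hL
    constructor
    · rintro ⟨⟨a, ha⟩, ⟨b, hb⟩⟩ ⟨⟨c, hc⟩, ⟨d, hd⟩⟩ e
      have e' : φ a * φ b = φ c * φ d := by
        rw [← map_mul, ← map_mul]; exact congrArg φ e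
      have := hinj (a₁ := (⟨φ a, ⟨a, ha, rfl⟩⟩, ⟨φ b, hb⟩)) (a₂ := (⟨φ c, ⟨c, hc, rfl⟩⟩, ⟨φ d, hd⟩)) e'
      simp only [Prod.mk.injEq, Subtype.mk.injEq] at this ⊢
      exact ⟨φ.injective (congrArg Subtype.val this.1), φ.injective (congrArg Subtype.val this.2)⟩
    · intro g
      obtain ⟨⟨⟨_, a, ha, rfl⟩, ⟨b, hb⟩⟩, hab⟩ := hsurj (φ g)
      obtain ⟨b, rfl⟩ := φ.surjective b
      exact ⟨(⟨a, ha⟩, ⟨b, hb⟩), φ.injective ((map_mul φ a b).trans hab)⟩

theorem isSimple_fusion_Ly {G : Type*} [Group G] [Finite G] (φ : G ≃* Cfsg.Spor.Ly)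
    {t : Cfsg.Spor.Ly} (ht : orderOf t = 2)
    (hD : Cfsg.IsNonsplitDoubleCover ↥(centralizer ({t} : Set Cfsg.Spor.Ly)) (alternatingGroup (Fin 11)))
    (S : Sylow 2 G) : (Cfsg.groupFusionSystem (S : Subgroup G)).IsSimple 2 := by
  obtain ⟨hs, hcard⟩ := CfsgLib.Coset.Ly.isLy CfsgLib.Coset.Ly.isSimple_A
  haveI : IsSimpleGroup Cfsg.Spor.Ly := hs
  haveI : Finite Cfsg.Spor.Ly := Finite.of_equiv G φ.toEquiv
  haveI : IsSimpleGroup G := φ.isSimpleGroup
  set z := φ.symm t with hz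
  have hmap : (centralizer ({z} : Set G)).map φ.toMonoidHom = centralizer ({t} : Set Cfsg.Spor.Ly) := by
    ext x
    simp only [mem_map, mem_centralizer_singleton_iff]
    refine ⟨?_, fun h => ⟨φ.symm x, ?_, φ.apply_symm_apply x⟩⟩
    · rintro ⟨y, hy, rfl⟩
      have := congrArg φ hy
      rw [map_mul, map_mul, hz, φ.apply_symm_apply] at this
      exact this
    · rw [hz, ← map_mul, h, map_mul]
  let ψ : ↥(centralizer ({t} : Set Cfsg.Spor.Ly)) ≃* ↥(centralizer ({z} : Set G)) :=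
    (MulEquiv.subgroupCongr hmap).symm.trans
      ((centralizer ({z} : Set G)).equivMapOfInjective φ.toMonoidHom φ.injective).symm
  have hDz := doubleCover_congr ψ hD
  refine isSimple_fusion_of_doubleCover_alt (n := 11) (z := z) (by omega)
    (by rw [hz, MulEquiv.orderOf_eq, ht]) ?_ hDz S
  obtain ⟨hc2, ⟨e⟩, -⟩ := hDz
  have hC : Nat.card ↥(centralizer ({z} : Set G)) = 39916800 := by
    rw [Subgroup.card_eq_card_quotient_mul_card_subgroup (center ↥(centralizer ({z} : Set G))),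
      hc2, Nat.card_congr e.toEquiv]
    have h := two_mul_nat_card_alternatingGroup (α := Fin 11)
    rw [Nat.card_perm, Nat.card_fin] at h
    rw [mul_comm, h]
    rfl
  have hi := (centralizer ({z} : Set G)).card_mul_index
  rw [Nat.card_congr φ.toEquiv, hcard, hC] at hi
  omega

end CfsgLib.LyFusion
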